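import Cfsg.Agent.Lib.CosetEnum.RuStepG.Data

/-! Generated certificate. -/

set_option autoImplicit false
set_option maxRecDepth 20000

namespace Cfsg.Lib.CosetEnum.RuStepG

theorem closed_0 : closedOK tabF tabZ tabP 26311 8120 6 [0, 1, 2, 3, 4, 5] 4000 0 = true := by decide +kernel

theorem closed_1 : closedOK tabF tabZ tabP 26311 8120 6 [0, 1, 2, 3, 4, 5] 4000 4000 = true := by decide +kernel

theorem closed_2 : closedOK tabF tabZ tabP 26311 8120 6 [0, 1, 2, 3, 4, 5] 120 8000 = true := by decide +kernel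

end Cfsg.Lib.CosetEnum.RuStepG
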