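import Cfsg.Agent.Lib.CosetEnum.RuStepG.DefsPart0
import Cfsg.Agent.Lib.CosetEnum.RuStepG.StepsPart0
import Cfsg.Agent.Lib.CosetEnum.RuStepG.StepsPart1
import Cfsg.Agent.Lib.CosetEnum.RuStepG.StepsPart2
import Cfsg.Agent.Lib.CosetEnum.RuStepG.StepsPart3
import Cfsg.Agent.Lib.CosetEnum.RuStepG.StepsPart4
import Cfsg.Agent.Lib.CosetEnum.RuStepG.StepsPart5
import Cfsg.Agent.Lib.CosetEnum.RuStepG.ClosedPart0

/-! Generated certificate. -/

set_option autoImplicit false
set_option maxRecDepth 20000

namespace Cfsg.Lib.CosetEnum.RuStepG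

theorem step_valid {R0 : List (List Nat)} (h : shiftsOK R0 relWords = true) : step.Valid R0 where
  pos := by decide +kernel
  shifts := h
  defs := (defsOK_append (a := 4000) (b := 5151) defs_0 (defsOK_append (a := 4000) (b := 1151) defs_1 defs_2))
  steps := (stepsOK_append (m := 9000) (n := 8160) (stepsOK_append (m := 4500) (n := 4500) (stepsOK_append (m := 1500) (n := 3000) steps_0 (stepsOK_append (m := 1500) (n := 1500) steps_1 steps_2)) (stepsOK_append (m := 1500) (n := 3000) steps_3 (stepsOK_append (m := 1500) (n := 1500) steps_4 steps_5))) (stepsOK_append (m := 4500) (n := 3660) (stepsOK_append (m := 1500) (n := 3000) steps_6 (stepsOK_append (m := 1500) (n := 1500) steps_7 steps_8)) (stepsOK_append (m := 1500) (n := 2160) steps_9 (stepsOK_append (m := 1500) (n := 660) steps_10 steps_11))))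
  closed := (closedOK_append (a := 4000) (b := 4120) closed_0 (closedOK_append (a := 4000) (b := 120) closed_1 closed_2))

end Cfsg.Lib.CosetEnum.RuStepG
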